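import Cfsg.Agent.Lib.Recog.BitPerm.Basic
import Mathlib.Data.ZMod.Basic

set_option autoImplicit false

/-!
Permutations of `ℕ × ℤ/3` given by a network and a pair of bit planes for the fibre labels (owner: helper6).
-/

namespace CfsgLib.Recog.FiFour.Cover

open CfsgLib.Recog.BitPerm

/-- The trit of two bits. -/
def bval (p m : Bool) : ZMod 3 := (if p then 1 else 0) - (if m then 1 else 0)

/-- The trit at a position. -/
noncomputable def tval (P M i : ℕ) : ZMod 3 := bval (P.testBit i) (M.testBit i)

/-- The plus plane without common bits. -/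
noncomputable def nrm (P M : ℕ) : ℕ := Nat.xor P (Nat.land P M)

/-- The plus plane of a sum of reduced planes. -/
noncomputable def sumP (a b c d : ℕ) : ℕ :=
  Nat.lor (Nat.lor (Nat.xor a (Nat.land a (Nat.lor c d))) (Nat.xor c (Nat.land c (Nat.lor a b)))) (Nat.land b d)

/-- The plus plane of a sum. -/
noncomputable def addP (P M Q R : ℕ) : ℕ := sumP (nrm P M) (nrm M P) (nrm Q R) (nrm R Q)

/-- The minus plane of a sum. -/
noncomputable def addM (P M Q R : ℕ) : ℕ := sumP (nrm M P) (nrm P M) (nrm R Q) (nrm Q R)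

theorem tval_add (P M Q R i : ℕ) : tval (addP P M Q R) (addM P M Q R) i = tval P M i + tval Q R i := by
  have key : ∀ p m q r : Bool,
      bval
        ((((p ^^ (p && m)) ^^ ((p ^^ (p && m)) && ((q ^^ (q && r)) || (r ^^ (r && q))))) ||
          ((q ^^ (q && r)) ^^ ((q ^^ (q && r)) && ((p ^^ (p && m)) || (m ^^ (m && p)))))) ||
          ((m ^^ (m && p)) && (r ^^ (r && q))))
        ((((m ^^ (m && p)) ^^ ((m ^^ (m && p)) && ((r ^^ (r && q)) || (q ^^ (q && r))))) ||
          ((r ^^ (r && q)) ^^ ((r ^^ (r && q)) && ((m ^^ (m && p)) || (p ^^ (p && m)))))) ||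
          ((p ^^ (p && m)) && (q ^^ (q && r))))
      = bval p m + bval q r := by decide
  unfold tval
  rw [← key]
  change bval
      (((((P ^^^ (P &&& M)) ^^^ ((P ^^^ (P &&& M)) &&& ((Q ^^^ (Q &&& R)) ||| (R ^^^ (R &&& Q))))) |||
        ((Q ^^^ (Q &&& R)) ^^^ ((Q ^^^ (Q &&& R)) &&& ((P ^^^ (P &&& M)) ||| (M ^^^ (M &&& P)))))) |||
        ((M ^^^ (M &&& P)) &&& (R ^^^ (R &&& Q)))).testBit i)
      (((((M ^^^ (M &&& P)) ^^^ ((M ^^^ (M &&& P)) &&& ((R ^^^ (R &&& Q)) ||| (Q ^^^ (Q &&& R))))) |||
        ((R ^^^ (R &&& Q)) ^^^ ((R ^^^ (R &&& Q)) &&& ((M ^^^ (M &&& P)) ||| (P ^^^ (P &&& M)))))) |||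
        ((P ^^^ (P &&& M)) &&& (Q ^^^ (Q &&& R)))).testBit i) = _
  simp only [Nat.testBit_xor, Nat.testBit_and, Nat.testBit_or]

theorem tval_swap (P M i : ℕ) : tval M P i = - tval P M i := by
  unfold tval bval
  ring

theorem tval_zero (i : ℕ) : tval 0 0 i = 0 := by simp [tval, bval]

variable (net : ℕ → List Stage) (LP LM : ℕ → ℕ)

/-- The accumulated labels of a word, as two planes; `s` says whether an odd number of letters went before. -/
noncomputable def trun (w : List ℕ) : Bool → ℕ → ℕ → ℕ × ℕ :=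
  List.rec (motive := fun _ => Bool → ℕ → ℕ → ℕ × ℕ) (fun _ P M => (P, M))
    (fun x _ ih s P M => ih (!s)
      (addP (run (net x) P) (run (net x) M) (cond s (LM x) (LP x)) (cond s (LP x) (LM x)))
      (addM (run (net x) P) (run (net x) M) (cond s (LM x) (LP x)) (cond s (LP x) (LM x)))) w

/-- The labels of a word form the given planes. -/
noncomputable def wordLabels (w : List ℕ) (P M : ℕ) : Bool :=
  Nat.beq (trun net LP LM w false 0 0).1 P && Nat.beq (trun net LP LM w false 0 0).2 M

/-- One letter on the triple cover. -/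
noncomputable def tau (x : ℕ) : Equiv.Perm (ℕ × ZMod 3) where
  toFun q := (netPerm (net x) q.1, - q.2 + tval (LP x) (LM x) q.1)
  invFun q := ((netPerm (net x)).symm q.1, - q.2 + tval (LP x) (LM x) ((netPerm (net x)).symm q.1))
  left_inv q := by
    obtain ⟨p, a⟩ := q
    simp only [Equiv.symm_apply_apply]
    exact Prod.ext rfl (by ring)
  right_inv q := by
    obtain ⟨p, a⟩ := q
    simp only [Equiv.apply_symm_apply]
    exact Prod.ext rfl (by ring)

/-- A word on the triple cover. -/
noncomputable def tauWord (w : List ℕ) : Equiv.Perm (ℕ × ZMod 3) := (w.map (tau net LP LM)).prod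

/-- The sign of a parity. -/
def sgn (s : Bool) (a : ZMod 3) : ZMod 3 := if s then -a else a

theorem trun_spec {B : ℕ} (hV : Valid B net) : ∀ (w : List ℕ) (s : Bool) (P M p : ℕ) (a : ZMod 3),
    tauWord net LP LM w (p, a) = (wordPerm net w p,
      sgn (w.length % 2 == 1) a + sgn s (tval (trun net LP LM w s P M).1 (trun net LP LM w s P M).2 p -
        tval P M (wordPerm net w p)))
  | [], s, P, M, p, a => by
    show (p, a) = (p, _)
    refine Prod.ext rfl ?_
    show a = sgn false a + sgn s (tval P M p - tval P M p)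
    cases s <;> simp [sgn]
  | x :: w, s, P, M, p, a => by
    show tau net LP LM x (tauWord net LP LM w (p, a)) = _
    rw [trun_spec hV w (!s) (addP (run (net x) P) (run (net x) M) (cond s (LM x) (LP x)) (cond s (LP x) (LM x)))
      (addM (run (net x) P) (run (net x) M) (cond s (LM x) (LP x)) (cond s (LP x) (LM x))) p a]
    refine Prod.ext rfl ?_
    show - (_ + _) + tval (LP x) (LM x) (wordPerm net w p) = _
    have hrun : tval (run (net x) P) (run (net x) M) (wordPerm net w p) = tval P M (wordPerm net (x :: w) p) := by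
      unfold tval
      rw [testBit_run (hV.ok x), testBit_run (hV.ok x)]
      rfl
    have hpar : ((x :: w).length % 2 == 1) = !(w.length % 2 == 1) := by
      rw [List.length_cons]
      rcases Nat.mod_two_eq_zero_or_one w.length with h | h <;> simp [Nat.add_mod, h]
    rw [tval_add, hrun, hpar]
    change - (sgn _ a + sgn (!s) ((tval (trun net LP LM (x :: w) s P M).1 (trun net LP LM (x :: w) s P M).2 p) - _)) + _ = _
    cases s <;> cases (w.length % 2 == 1) <;> simp [sgn, tval_swap (LP x) (LM x)] <;> ring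

theorem tauWord_even {B : ℕ} (hV : Valid B net) {w : List ℕ} (hw : w.length % 2 = 0) {P M : ℕ}
    (h : wordLabels net LP LM w P M = true) (p : ℕ) (a : ZMod 3) :
    tauWord net LP LM w (p, a) = (wordPerm net w p, a + tval P M p) := by
  simp only [wordLabels, Bool.and_eq_true, Nat.beq_eq] at h
  rw [trun_spec net LP LM hV w false 0 0 p a, h.1, h.2, tval_zero]
  simp [sgn, hw]

end CfsgLib.Recog.FiFour.Cover
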