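import Cfsg.Agent.Lib.Recog.FiFour.Nets
import Cfsg.Agent.Lib.Recog.FiFour.RelData
import Cfsg.Agent.Lib.Recog.FiFour.Cover.Trit
import Cfsg.Agent.Lib.Recog.FiFour.Cover.Labels

set_option autoImplicit false
set_option maxRecDepth 20000

/-! The fibre labels satisfy the relators, the last one with a constant (owner: helper6). -/

namespace CfsgLib.Recog.FiFour.Cover

open CfsgLib.Recog.BitPerm

theorem seven_labels : wordLabels net pl mi sevenRel 0 0 = true := by decide +kernel

theorem pairs_labels : (pairParts.flatten.all fun w => wordLabels net pl mi w 0 0) = true := by decide +kernel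

theorem centre_labels : wordLabels net pl mi centreRel (2 ^ numPts - 1) 0 = true := by unfold numPts; decide +kernel

theorem full_closed : ((List.range 12).all fun x => Nat.beq (run (net x) (2 ^ numPts - 1)) (2 ^ numPts - 1)) = true := by
  unfold numPts; decide +kernel

end CfsgLib.Recog.FiFour.Cover
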