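import Cfsg.Agent.Lib.Recog.FiFour.Simple
import Cfsg.Agent.Lib.Recog.FiFour.Cover.CheckLabels
import Cfsg.Prelude.Def_KGroupFacts
import Mathlib.GroupTheory.Abelianization.Defs
import Mathlib.Tactic.IntervalCases

set_option autoImplicit false
set_option maxRecDepth 20000
set_option linter.style.haveILetI false

/-!
The triple cover of Fi24': the labelled action on three copies of the 306936 points (owner: helper6).
-/

namespace CfsgLib.Recog.FiFour.Cover

open Cfsg CfsgLib.Recog.BitPerm CfsgLib.Recog.SporBound CfsgLib.ThreeTrans.CosetIndex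

attribute [local instance] finite_fi24

/-- The generators on the cover. -/
noncomputable abbrev TT (x : ℕ) : Equiv.Perm (ℕ × ZMod 3) := tau net pl mi x

theorem full_bit (p : ℕ) : (2 ^ numPts - 1 : ℕ).testBit p = decide (p < numPts) := Nat.testBit_two_pow_sub_one _ _

theorem net_keep {x : ℕ} (hx : x < 12) (p : ℕ) : netPerm (net x) p < numPts ↔ p < numPts := by
  have h := Nat.eq_of_beq_eq_true (List.all_eq_true.1 full_closed x (List.mem_range.2 hx))
  have h' := congrArg (fun n : ℕ => n.testBit p) h
  simp only [testBit_run (netValid.ok x), full_bit, decide_eq_decide] at h'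
  exact h'

/-- The shift of the fibres. -/
noncomputable def zf : Equiv.Perm (ℕ × ZMod 3) where
  toFun q := (q.1, if q.1 < numPts then q.2 + 1 else q.2)
  invFun q := (q.1, if q.1 < numPts then q.2 - 1 else q.2)
  left_inv q := by
    obtain ⟨p, a⟩ := q
    by_cases h : p < numPts <;> simp [h]
  right_inv q := by
    obtain ⟨p, a⟩ := q
    by_cases h : p < numPts <;> simp [h]

theorem zf_apply (p : ℕ) (a : ZMod 3) : zf (p, a) = (p, if p < numPts then a + 1 else a) := rfl

theorem checked_cover {w : List ℕ} (hw : w ∈ checkedRels) :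
    tauWord net pl mi w = 1 ∨ tauWord net pl mi w = zf := by
  have hev : ∀ u ∈ checkedRels, u.length % 2 = 0 := fun u hu =>
    beq_iff_eq.1 (List.all_eq_true.1 (show (checkedRels.all fun u => u.length % 2 == 0) = true by decide +kernel) u hu)
  have h1 := checked_one w hw
  have hl := hev w hw
  simp only [checkedRels, List.mem_append, List.mem_cons, List.not_mem_nil, or_false] at hw
  rcases hw with hw | rfl | rfl
  · left
    refine Equiv.ext fun ⟨p, a⟩ => ?_
    rw [tauWord_even net pl mi netValid hl (List.all_eq_true.1 pairs_labels w hw), h1, tval_zero, add_zero]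
    rfl
  · left
    refine Equiv.ext fun ⟨p, a⟩ => ?_
    rw [tauWord_even net pl mi netValid hl seven_labels, h1, tval_zero, add_zero]
    rfl
  · right
    refine Equiv.ext fun ⟨p, a⟩ => ?_
    rw [tauWord_even net pl mi netValid hl centre_labels, h1, zf_apply]
    refine Prod.ext rfl ?_
    show a + tval _ 0 p = _
    rw [tval, full_bit, Nat.zero_testBit]
    by_cases h : p < numPts <;> simp [h, bval]

theorem centre_value : tauWord net pl mi centreRel = zf := by
  refine Equiv.ext fun ⟨p, a⟩ => ?_
  rw [tauWord_even net pl mi netValid (by decide) centre_labels,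
    checked_one centreRel (by simp [checkedRels]), zf_apply]
  refine Prod.ext rfl ?_
  show a + tval _ 0 p = _
  rw [tval, full_bit, Nat.zero_testBit]
  by_cases h : p < numPts <;> simp [h, bval]

/-- The group on the cover. -/
noncomputable def big : Subgroup (Equiv.Perm (ℕ × ZMod 3)) := Subgroup.closure {g | ∃ x < 12, g = TT x}

/-- A generator inside the group. -/
noncomputable def gT (x : ℕ) : big :=
  if h : x < 12 then ⟨TT x, Subgroup.subset_closure ⟨x, h, rfl⟩⟩ else 1

theorem gT_coe {x : ℕ} (hx : x < 12) : (gT x : Equiv.Perm (ℕ × ZMod 3)) = TT x := by rw [gT, dif_pos hx]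

/-- A word inside the group. -/
noncomputable def gW' (w : List ℕ) : big := (w.map gT).prod

theorem gW'_coe : ∀ {w : List ℕ}, (∀ x ∈ w, x < 12) → (gW' w : Equiv.Perm (ℕ × ZMod 3)) = tauWord net pl mi w
  | [], _ => rfl
  | x :: w, h => by
    show ((gT x * gW' w : big) : Equiv.Perm (ℕ × ZMod 3)) = TT x * tauWord net pl mi w
    rw [Subgroup.coe_mul, gT_coe (h x List.mem_cons_self), gW'_coe fun y hy => h y (List.mem_cons_of_mem _ hy)]

theorem rels_small : (checkedRels.all fun u => u.all (· < 12)) = true := by decide +kernel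

theorem small_of_mem {w : List ℕ} (hw : w ∈ checkedRels) : ∀ x ∈ w, x < 12 := fun x hx => by
  simpa using List.all_eq_true.1 (List.all_eq_true.1 rels_small w hw) x hx

/-- The shift inside the group. -/
noncomputable def zg : big := gW' centreRel

theorem zg_coe : (zg : Equiv.Perm (ℕ × ZMod 3)) = zf :=
  (gW'_coe (small_of_mem (by simp [checkedRels]))).trans centre_value

theorem gT_conj (x : ℕ) : gT x * zg = zg⁻¹ * gT x ∨ gT x = 1 := by
  by_cases hx : x < 12
  · left
    refine eq_inv_mul_iff_mul_eq.2 (Subtype.ext ?_)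
    rw [Subgroup.coe_mul, Subgroup.coe_mul, gT_coe hx, zg_coe]
    refine Equiv.ext fun ⟨p, a⟩ => ?_
    show zf (netPerm (net x) p, - (if p < numPts then a + 1 else a) + tval (pl x) (mi x) p) =
      (netPerm (net x) p, - a + tval (pl x) (mi x) p)
    rw [zf_apply]
    refine Prod.ext rfl ?_
    show (if netPerm (net x) p < numPts then _ else _) = _
    by_cases h : p < numPts
    · rw [if_pos ((net_keep hx p).2 h), if_pos h]; ring
    · rw [if_neg (fun e => h ((net_keep hx p).1 e)), if_neg h]
  · right
    rw [gT, dif_neg hx]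

theorem gT_gen : Subgroup.closure (Set.range gT) = ⊤ := by
  refine eq_top_iff.2 fun g _ => ?_
  have key : ∀ (y : Equiv.Perm (ℕ × ZMod 3)) (hy : y ∈ big), (⟨y, hy⟩ : big) ∈ Subgroup.closure (Set.range gT) := by
    intro y hy
    induction hy using Subgroup.closure_induction with
    | mem y hy =>
      obtain ⟨x, hx, rfl⟩ := hy
      exact Subgroup.subset_closure ⟨x, Subtype.ext (gT_coe hx)⟩
    | one => exact one_mem _
    | mul a b _ _ ia ib => exact mul_mem ia ib
    | inv a _ ia => exact inv_mem ia
  exact key g.1 g.2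

/-- The kernel of the cover. -/
noncomputable def zN : Subgroup big := Subgroup.zpowers zg

theorem conj_pow (x : ℕ) {n : big} (hn : n ∈ zN) :
    gT x * n * (gT x)⁻¹ ∈ zN ∧ (gT x)⁻¹ * n * gT x ∈ zN := by
  obtain ⟨k, rfl⟩ := Subgroup.mem_zpowers_iff.1 hn
  rcases gT_conj x with h | h
  · have h1 : gT x * zg * (gT x)⁻¹ = zg⁻¹ := by rw [h, mul_inv_cancel_right]
    have h2 : (gT x)⁻¹ * zg * gT x = zg⁻¹ := by
      have h' : gT x * zg⁻¹ = zg * gT x := mul_inv_eq_iff_eq_mul.2 (by rw [mul_assoc, h, mul_inv_cancel_left])
      rw [mul_assoc, ← h', inv_mul_cancel_left]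
    constructor
    · refine Subgroup.mem_zpowers_iff.2 ⟨-k, ?_⟩
      rw [← conj_zpow, h1, inv_zpow']
    · refine Subgroup.mem_zpowers_iff.2 ⟨-k, ?_⟩
      have := conj_zpow (a := (gT x)⁻¹) (b := zg) (i := k)
      rw [inv_inv, h2, inv_zpow'] at this
      exact this
  · simp [h, zN]

instance zN_normal : zN.Normal := ⟨fun n hn g => by
  have key : ∀ g ∈ Subgroup.closure (Set.range gT), ∀ m ∈ zN, g * m * g⁻¹ ∈ zN ∧ g⁻¹ * m * g ∈ zN := by
    intro g hg
    induction hg using Subgroup.closure_induction with
    | mem g hg => obtain ⟨x, rfl⟩ := hg; exact fun m hm => conj_pow x hm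
    | one => intro m hm; simp [hm]
    | mul a b _ _ ia ib =>
      intro m hm
      exact ⟨by simpa [mul_assoc] using (ia _ (ib m hm).1).1, by simpa [mul_assoc] using (ib _ (ia m hm).2).2⟩
    | inv a _ ia =>
      intro m hm
      exact ⟨by simpa [mul_assoc] using (ia m hm).2, by simpa [mul_assoc] using (ia m hm).1⟩
  exact (key g (gT_gen ▸ Subgroup.mem_top g) n hn).1⟩

theorem checked_quot {w : List ℕ} (hw : w ∈ checkedRels) :
    (w.map fun x => QuotientGroup.mk' zN (gT x)).prod = 1 := by
  rw [show (fun x => QuotientGroup.mk' zN (gT x)) = (QuotientGroup.mk' zN) ∘ gT from rfl, ← List.map_map,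
    ← map_list_prod, QuotientGroup.mk'_apply, QuotientGroup.eq_one_iff]
  show gW' w ∈ zN
  rcases checked_cover hw with h | h
  · rw [show gW' w = 1 from Subtype.ext ((gW'_coe (small_of_mem hw)).trans h)]
    exact one_mem _
  · rw [show gW' w = zg from Subtype.ext (((gW'_coe (small_of_mem hw)).trans h).trans zg_coe.symm)]
    exact Subgroup.mem_zpowers _

theorem gT_sq (x : ℕ) : gT x * gT x = 1 := by
  by_cases hx : x < 12
  · have hm : [x, x] ∈ checkedRels := List.contains_iff_mem.1
      ((show ∀ y < 12, checkedRels.contains [y, y] = true by decide +kernel) x hx)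
    have hm' : [x, x] ∈ pairParts.flatten := List.contains_iff_mem.1
      ((show ∀ y < 12, pairParts.flatten.contains [y, y] = true by decide +kernel) x hx)
    refine Subtype.ext ?_
    rw [Subgroup.coe_mul, gT_coe hx, OneMemClass.coe_one]
    refine Equiv.ext fun ⟨p, a⟩ => ?_
    have e := tauWord_even net pl mi netValid (w := [x, x]) (by simp) (List.all_eq_true.1 pairs_labels _ hm') p a
    rw [checked_one _ hm, tval_zero, add_zero] at e
    simpa [tauWord] using e
  · rw [gT, dif_neg hx, one_mul]

theorem quot_sq (x : ℕ) : QuotientGroup.mk' zN (gT x) * QuotientGroup.mk' zN (gT x) = 1 := by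
  rw [← map_mul, gT_sq, map_one]

/-- The map from Fi24. -/
noncomputable def toQ : Spor.Fi24 →* big ⧸ zN :=
  PresentedGroup.toGroup (f := fun y => QuotientGroup.mk' zN (gT (gens24.idxOf y))) (by
    intro r hr
    rw [hom_eq_prod gens24 _ (fun x => QuotientGroup.mk' zN (gT x)) (fun y => FreeGroup.lift_apply_of) quot_sq]
    refine prod_rotMem _ (List.all_eq_true.1 rels_rot _ ?_) fun w hw => checked_quot hw
    rw [relWords, List.mem_append]
    rcases hr with ⟨x, hx, y, hy, rfl⟩ | hr
    · exact Or.inl (List.mem_flatMap.2 ⟨x, hx, List.mem_map.2 ⟨y, hy, rfl⟩⟩)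
    · exact Or.inr (List.mem_map.2 ⟨r, hr, rfl⟩))

theorem toQ_gg {x : ℕ} (hx : x < 12) : toQ (gg x) = QuotientGroup.mk' zN (gT x) := by
  have hlen : x < gens24.length := hx
  unfold gg gen
  rw [List.getElem?_eq_getElem hlen]
  show toQ (PresentedGroup.of gens24[x]) = _
  rw [toQ, PresentedGroup.toGroup.of, (show gens24.Nodup by decide).idxOf_getElem _ hlen]

theorem toQ_word : ∀ {w : List ℕ}, (∀ x ∈ w, x < 12) → toQ (word w) = QuotientGroup.mk' zN (gW' w)
  | [], _ => by simp [word, gW']
  | x :: w, h => by
    rw [show word (x :: w) = gg x * word w from List.prod_cons, show gW' (x :: w) = gT x * gW' w from List.prod_cons,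
      map_mul, map_mul, toQ_gg (h x List.mem_cons_self), toQ_word fun y hy => h y (List.mem_cons_of_mem _ hy)]

theorem toQ_surjective : Function.Surjective toQ := by
  rw [← MonoidHom.range_eq_top, eq_top_iff]
  intro q hq
  clear hq
  obtain ⟨g, rfl⟩ := QuotientGroup.mk'_surjective zN q
  have hg : g ∈ Subgroup.closure (Set.range gT) := gT_gen ▸ Subgroup.mem_top g
  induction hg using Subgroup.closure_induction with
  | mem g hg =>
    obtain ⟨x, rfl⟩ := hg
    by_cases hx : x < 12
    · exact ⟨gg x, toQ_gg hx⟩
    · rw [gT, dif_neg hx, map_one]; exact one_mem _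
  | one => rw [map_one]; exact one_mem _
  | mul a b _ _ ia ib => rw [map_mul]; exact mul_mem ia ib
  | inv a _ ia => rw [map_inv]; exact inv_mem ia

theorem zf_fst (g : big) (hg : g ∈ zN) (q : ℕ × ZMod 3) : ((g : Equiv.Perm (ℕ × ZMod 3)) q).1 = q.1 := by
  have key : ∀ k : ℕ, ∀ q : ℕ × ZMod 3, ((zf ^ k) q).1 = q.1 := by
    intro k
    induction k with
    | zero => exact fun q => rfl
    | succ k ih => intro q; rw [pow_succ', Equiv.Perm.mul_apply, ← ih q]; rfl
  obtain ⟨k, rfl⟩ := Subgroup.mem_zpowers_iff.1 hg
  rw [SubgroupClass.coe_zpow, zg_coe]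
  obtain ⟨n, rfl | rfl⟩ := k.eq_nat_or_neg
  · rw [zpow_natCast]; exact key n q
  · rw [zpow_neg, zpow_natCast]
    conv_rhs => rw [← Equiv.apply_symm_apply (zf ^ n) q]
    rw [key]
    rfl

theorem toQ_ker {u : parity.ker} (h : toQ (u : Spor.Fi24) = 1) : u = 1 := by
  let R : Subgroup parity.ker := (toQ.comp parity.ker.subtype).ker
  haveI := isSimple_even
  rcases IsSimpleGroup.eq_bot_or_eq_top_of_normal R inferInstance with e | e
  · exact Subgroup.mem_bot.1 (e ▸ MonoidHom.mem_ker.2 h)
  · exfalso
    have h1 : toQ (word gW) = 1 := by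
      have h2 : (⟨word gW, parity_g1⟩ : parity.ker) ∈ R := e ▸ Subgroup.mem_top _
      exact MonoidHom.mem_ker.1 h2
    have hsm : ∀ x ∈ gW, x < 12 := by decide
    rw [toQ_word hsm, QuotientGroup.mk'_apply, QuotientGroup.eq_one_iff] at h1
    have h2 := zf_fst _ h1 (0, 0)
    rw [gW'_coe hsm, trun_spec net pl mi netValid gW false 0 0 0 0] at h2
    exact (show wordPerm net gW 0 ≠ 0 by
      intro h0
      have hm : mapsOK net gW 0 0 = false := by decide +kernel
      have : mapsOK net gW 0 5 = true := by decide +kernel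
      rw [wordPerm_maps netValid this] at h0
      omega) h2

/-- The cover. -/
noncomputable abbrev covG : Subgroup big := commutator big

theorem gT_pair_mem (x y : ℕ) (hx : x < 12) (hy : y < 12) : gT x * gT y ∈ covG := by
  have habs : ∀ a b : ℕ, a < 12 → b < 12 → (Abelianization.of (gT a) : Abelianization big) = Abelianization.of (gT b) := by
    have step : ∀ a b : ℕ, a < 12 → b < 12 → [a, b, a, b, a, b] ∈ pairParts.flatten →
        (Abelianization.of (gT a) : Abelianization big) = Abelianization.of (gT b) := by
      intro a b ha hb hm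
      have h1 : gW' [a, b, a, b, a, b] = 1 := Subtype.ext <| by
        rw [gW'_coe (by simp [ha, hb]), OneMemClass.coe_one]
        refine Equiv.ext fun ⟨p, c⟩ => ?_
        rw [tauWord_even net pl mi netValid (by simp) (List.all_eq_true.1 pairs_labels _ hm),
          checked_one _ (by simp only [checkedRels, List.mem_append]; exact Or.inl hm), tval_zero, add_zero]
        rfl
      have h2 := congrArg (fun g => (Abelianization.of g : Abelianization big)) h1
      simp only [gW', List.map_cons, List.map_nil, List.prod_cons, List.prod_nil, map_mul, map_one] at h2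
      have hsa : (Abelianization.of (gT a) : Abelianization big) * Abelianization.of (gT a) = 1 := by
        rw [← map_mul, gT_sq, map_one]
      have hsb : (Abelianization.of (gT b) : Abelianization big) * Abelianization.of (gT b) = 1 := by
        rw [← map_mul, gT_sq, map_one]
      generalize (Abelianization.of (gT a) : Abelianization big) = u at h2 hsa ⊢
      generalize (Abelianization.of (gT b) : Abelianization big) = v at h2 hsb ⊢
      have e : u * v = 1 := by
        calc u * v = (u * v) * ((u * u) * (v * v)) := by rw [hsa, hsb, mul_one, mul_one]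
          _ = 1 := by rw [← h2]; simp only [mul_one, mul_comm, mul_left_comm]
      calc u = u * (v * v) := by rw [hsb, mul_one]
        _ = v := by rw [← mul_assoc, e, one_mul]
    have h9 := step 6 9 (by decide) (by decide) (by decide)
    have h78 := step 7 8 (by decide) (by decide) (by decide)
    have h01 := step 0 1 (by decide) (by decide) (by decide)
    have h12 := step 1 2 (by decide) (by decide) (by decide)
    have h23 := step 2 3 (by decide) (by decide) (by decide)
    have h34 := step 3 4 (by decide) (by decide) (by decide)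
    have h45 := step 4 5 (by decide) (by decide) (by decide)
    have h56 := step 5 6 (by decide) (by decide) (by decide)
    have h37 := step 3 7 (by decide) (by decide) (by decide)
    have h010 := step 0 10 (by decide) (by decide) (by decide)
    have h1011 := step 10 11 (by decide) (by decide) (by decide)
    have all : ∀ a < 12, (Abelianization.of (gT a) : Abelianization big) = Abelianization.of (gT 0) := by
      intro a ha
      interval_cases a
      exacts [rfl, h01.symm, (h01.trans h12).symm, (h01.trans (h12.trans h23)).symm,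
        (h01.trans (h12.trans (h23.trans h34))).symm, (h01.trans (h12.trans (h23.trans (h34.trans h45)))).symm,
        (h01.trans (h12.trans (h23.trans (h34.trans (h45.trans h56))))).symm,
        (h01.trans (h12.trans (h23.trans h37))).symm, (h01.trans (h12.trans (h23.trans (h37.trans h78)))).symm,
        (h01.trans (h12.trans (h23.trans (h34.trans (h45.trans (h56.trans h9)))))).symm, h010.symm,
        (h010.trans h1011).symm]
    intro a b ha hb
    rw [all a ha, all b hb]
  rw [covG, ← Abelianization.ker_of big, MonoidHom.mem_ker, map_mul, habs x y hx hy, ← map_mul, gT_sq, map_one]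

theorem word_mem_cov : ∀ {w : List ℕ}, (∀ x ∈ w, x < 12) → w.length % 2 = 0 → gW' w ∈ covG
  | [], _, _ => one_mem _
  | [_], _, h => by simp at h
  | x :: y :: w, h, hl => by
    show gT x * (gT y * gW' w) ∈ covG
    rw [← mul_assoc]
    exact mul_mem (gT_pair_mem x y (h x List.mem_cons_self) (h y (by simp)))
      (word_mem_cov (fun z hz => h z (by simp [hz])) (by simp only [List.length_cons] at hl; omega))

theorem zg_mem : zg ∈ covG := word_mem_cov (small_of_mem (by simp [checkedRels])) (by decide)

theorem zg_cube : zg ^ 3 = 1 := by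
  refine Subtype.ext ?_
  rw [SubgroupClass.coe_pow, zg_coe, OneMemClass.coe_one]
  refine Equiv.ext fun ⟨p, a⟩ => ?_
  show zf (zf (zf (p, a))) = _
  simp only [zf_apply]
  refine Prod.ext rfl ?_
  show _ = a
  by_cases h : p < numPts
  · simp only [if_pos h]; rw [add_assoc, add_assoc, show (1 + (1 + 1) : ZMod 3) = 0 by decide, add_zero]
  · simp only [if_neg h]

theorem order_zg : orderOf zg = 3 := by
  haveI : Fact (Nat.Prime 3) := ⟨Nat.prime_three⟩
  refine orderOf_eq_prime zg_cube fun h => ?_
  have h' := congrArg (fun g : big => (g : Equiv.Perm (ℕ × ZMod 3)) (0, 0)) h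
  simp only [zg_coe, OneMemClass.coe_one, zf_apply, Equiv.Perm.one_apply,
    show (0 : ℕ) < numPts by rw [numPts_eq]; decide, if_true, Prod.mk.injEq, true_and, zero_add] at h'
  exact one_ne_zero h'

/-- The map onto the derived group. -/
noncomputable def down : covG →* parity.ker :=
  haveI := isSimple_even
  let ι : parity.ker →* big ⧸ zN := toQ.comp parity.ker.subtype
  have hι : Function.Injective ι := (injective_iff_map_eq_one ι).2 fun u hu => toQ_ker hu
  (MonoidHom.ofInjective hι).symm.toMonoidHom.comp
    (((QuotientGroup.mk' zN).comp covG.subtype).codRestrict ι.range fun g => by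
      have h1 : (commutator big).map (QuotientGroup.mk' zN) ≤ (commutator Spor.Fi24).map toQ := by
        rw [commutator_def, commutator_def, Subgroup.map_commutator, Subgroup.map_commutator,
          Subgroup.map_top_of_surjective _ toQ_surjective,
          Subgroup.map_top_of_surjective _ (QuotientGroup.mk'_surjective zN)]
      obtain ⟨u, hu, e⟩ := h1 ⟨g.1, g.2, rfl⟩
      rw [SetLike.mem_coe, derived_eq] at hu
      exact ⟨⟨u, hu⟩, e⟩)

theorem down_spec (g : covG) : toQ (down g : Spor.Fi24) = QuotientGroup.mk' zN (g : big) := by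
  haveI := isSimple_even
  have hι : Function.Injective (toQ.comp parity.ker.subtype) :=
    (injective_iff_map_eq_one _).2 fun u hu => toQ_ker hu
  exact congrArg Subtype.val ((MonoidHom.ofInjective hι).apply_symm_apply _)

theorem down_surjective : Function.Surjective down := by
  intro u
  have hu : (u : Spor.Fi24) ∈ commutator Spor.Fi24 := by rw [derived_eq]; exact u.2
  have h1 : toQ (u : Spor.Fi24) ∈ (commutator big).map (QuotientGroup.mk' zN) := by
    rw [commutator_def, Subgroup.map_commutator, Subgroup.map_top_of_surjective _ (QuotientGroup.mk'_surjective zN),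
      ← Subgroup.map_top_of_surjective _ toQ_surjective, ← Subgroup.map_commutator, ← commutator_def]
    exact ⟨_, hu, rfl⟩
  obtain ⟨g, hg, e⟩ := h1
  refine ⟨⟨g, hg⟩, ?_⟩
  have h2 : toQ ((down ⟨g, hg⟩ : parity.ker) : Spor.Fi24) = toQ (u : Spor.Fi24) := (down_spec ⟨g, hg⟩).trans e
  have := toQ_ker (u := (down ⟨g, hg⟩)⁻¹ * u) (by
    rw [Subgroup.coe_mul, Subgroup.coe_inv, map_mul, map_inv, h2, inv_mul_cancel])
  exact inv_mul_eq_one.1 this

/-- The shift in the cover. -/
noncomputable def zc : covG := ⟨zg, zg_mem⟩

theorem ker_down : down.ker = Subgroup.zpowers zc := by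
  refine le_antisymm (fun g hg => ?_) ((Subgroup.zpowers_le).2 ?_)
  · have h := down_spec g
    rw [MonoidHom.mem_ker.1 hg, OneMemClass.coe_one, map_one, eq_comm, QuotientGroup.mk'_apply,
      QuotientGroup.eq_one_iff] at h
    obtain ⟨k, hk⟩ := Subgroup.mem_zpowers_iff.1 h
    exact Subgroup.mem_zpowers_iff.2 ⟨k, Subtype.ext (by rw [SubgroupClass.coe_zpow]; exact hk)⟩
  · refine MonoidHom.mem_ker.2 (toQ_ker ?_)
    rw [down_spec, QuotientGroup.mk'_apply, QuotientGroup.eq_one_iff]
    exact Subgroup.mem_zpowers _

theorem zc_central : zc ∈ Subgroup.center covG := by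
  refine Subgroup.mem_center_iff.2 fun g => Subtype.ext ?_
  have hC : commutator big ≤ Subgroup.centralizer {zg} := by
    rw [commutator_def, Subgroup.commutator_le]
    intro a _ b _
    have conj : ∀ g : big, g * zg * g⁻¹ = zg ∨ g * zg * g⁻¹ = zg⁻¹ := by
      intro g
      have hg : g ∈ Subgroup.closure (Set.range gT) := gT_gen ▸ Subgroup.mem_top g
      induction hg using Subgroup.closure_induction with
      | mem g hg =>
        obtain ⟨x, rfl⟩ := hg
        rcases gT_conj x with h | h
        · exact Or.inr (by rw [h, mul_inv_cancel_right])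
        · exact Or.inl (by simp [h])
      | one => exact Or.inl (by simp)
      | mul c d _ _ ic id' =>
        have e : c * d * zg * (c * d)⁻¹ = c * (d * zg * d⁻¹) * c⁻¹ := by group
        rw [e]
        rcases id' with h | h <;> rw [h]
        · exact ic
        · have e2 : c * zg⁻¹ * c⁻¹ = (c * zg * c⁻¹)⁻¹ := by group
          rw [e2]
          rcases ic with h' | h' <;> rw [h']
          · exact Or.inr rfl
          · exact Or.inl (inv_inv _)
      | inv c _ ic =>
        rcases ic with h | h
        · left
          calc c⁻¹ * zg * c⁻¹⁻¹ = c⁻¹ * (c * zg * c⁻¹) * c := by rw [h]; group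
            _ = zg := by group
        · right
          calc c⁻¹ * zg * c⁻¹⁻¹ = c⁻¹ * (c * zg * c⁻¹)⁻¹ * c := by rw [h, inv_inv]; group
            _ = zg⁻¹ := by group
    rw [Subgroup.mem_centralizer_singleton_iff]
    let f : big →* MulAut (big) := MulAut.conj
    have hi : ∀ c : big, c * zg⁻¹ * c⁻¹ = (c * zg * c⁻¹)⁻¹ := fun c => by group
    have key : ∀ c d : big, c * d * zg * (c * d)⁻¹ = d * c * zg * (d * c)⁻¹ := by
      intro c d
      rw [show c * d * zg * (c * d)⁻¹ = c * (d * zg * d⁻¹) * c⁻¹ by group,
        show d * c * zg * (d * c)⁻¹ = d * (c * zg * c⁻¹) * d⁻¹ by group]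
      rcases conj d with h | h <;> rcases conj c with h' | h'
      all_goals (rw [h]; conv_rhs => rw [h'])
      all_goals simp only [hi, h, h', inv_inv]
    open scoped commutatorElement in
    have e : ⁅a, b⁆ * zg * ⁅a, b⁆⁻¹ = zg := by
      have e0 : ⁅a, b⁆ * zg * ⁅a, b⁆⁻¹ = a * b * ((b * a)⁻¹ * zg * (b * a)⁻¹⁻¹) * (a * b)⁻¹ := by
        rw [commutatorElement_def]; group
      rw [e0]
      rcases conj (b * a)⁻¹ with h | h
      · rw [h, key a b]
        conv_lhs => rw [← h]
        group
      · rw [h, hi, key a b, ← hi]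
        conv_lhs => rw [← h]
        group
    exact mul_inv_eq_iff_eq_mul.1 e
  exact Subgroup.mem_centralizer_singleton_iff.1 (hC g.2)

theorem cov_perfect : commutator covG = ⊤ := by
  have hK : commutator parity.ker = ⊤ := by
    haveI := isSimple_even
    rcases IsSimpleGroup.eq_bot_or_eq_top_of_normal (commutator parity.ker) inferInstance with h | h
    · exfalso
      rw [commutator_def] at h
      haveI : IsMulCommutative kK := ⟨⟨fun a b => Subtype.ext (by
        have := Subgroup.mem_bot.1 (h ▸ Subgroup.commutator_mem_commutator (Subgroup.mem_top (a : parity.ker))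
          (Subgroup.mem_top (b : parity.ker)))
        exact commutatorElement_eq_one_iff_mul_comm.1 this)⟩⟩
      exact kK_not_normal ⟨fun n hn g => by
        have := Subgroup.mem_bot.1 (h ▸ Subgroup.commutator_mem_commutator (Subgroup.mem_top g) (Subgroup.mem_top n))
        rwa [commutatorElement_eq_one_iff_mul_comm.1 this, mul_inv_cancel_right]⟩
    · exact h
  have hdec : ∀ g : covG, ∃ k : ℤ, g * (zc ^ k)⁻¹ ∈ commutator covG := by
    intro g
    have h1 : down g ∈ (commutator covG).map down := by
      rw [commutator_def, Subgroup.map_commutator, Subgroup.map_top_of_surjective _ down_surjective,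
        ← commutator_def, hK]
      exact Subgroup.mem_top _
    obtain ⟨c, hc, e⟩ := h1
    have h2 : c⁻¹ * g ∈ down.ker := by rw [MonoidHom.mem_ker, map_mul, map_inv, e, inv_mul_cancel]
    rw [ker_down] at h2
    obtain ⟨k, hk⟩ := Subgroup.mem_zpowers_iff.1 h2
    exact ⟨k, by rw [hk, mul_inv_rev, inv_inv, mul_inv_cancel_left]; exact hc⟩
  let q := (Abelianization.of : covG →* Abelianization covG)
  have hcube : ∀ g, q g ^ 3 = 1 := fun g => by
    obtain ⟨k, hk⟩ := hdec g
    rw [← Abelianization.ker_of covG, MonoidHom.mem_ker, map_mul, map_inv, mul_inv_eq_one] at hk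
    rw [show q g = q (zc ^ k) from hk, ← map_pow, ← zpow_natCast, ← zpow_mul, mul_comm, zpow_mul, zpow_natCast,
      show zc ^ 3 = 1 from Subtype.ext (by rw [SubgroupClass.coe_pow]; exact zg_cube), one_zpow, map_one]
  let tp : ℕ → ℕ → covG := fun x y => if h : x < 12 ∧ y < 12 then ⟨gT x * gT y, gT_pair_mem x y h.1 h.2⟩ else 1
  have tp_coe : ∀ {x y : ℕ}, x < 12 → y < 12 → (tp x y : big) = gT x * gT y := fun {x y} hx hy => by
    simp only [tp, dif_pos (And.intro hx hy)]
  have hcomm : ∀ x y : ℕ, x < 12 → y < 12 → [x, y, x, y] ∈ pairParts.flatten → q (tp x y) = 1 := by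
    intro x y hx hy hm
    have h1 : gW' [x, y, x, y] = 1 := Subtype.ext <| by
      rw [gW'_coe (by simp [hx, hy]), OneMemClass.coe_one]
      refine Equiv.ext fun ⟨p, c⟩ => ?_
      rw [tauWord_even net pl mi netValid (by simp) (List.all_eq_true.1 pairs_labels _ hm),
        checked_one _ (by simp only [checkedRels, List.mem_append]; exact Or.inl hm), tval_zero, add_zero]
      rfl
    have h2 : q (tp x y) * q (tp x y) = 1 := by
      rw [← map_mul, show tp x y * tp x y = 1 from Subtype.ext (by
        rw [Subgroup.coe_mul, tp_coe hx hy, OneMemClass.coe_one, ← h1]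
        simp only [gW', List.map_cons, List.map_nil, List.prod_cons, List.prod_nil, mul_one, mul_assoc]), map_one]
    have h3 := hcube (tp x y)
    rw [pow_succ, pow_two, h2, one_mul] at h3
    exact h3
  have hall : ∀ x y : ℕ, x < 12 → y < 12 → q (tp x y) = 1 := by
    intro x y hx hy
    have inv : ∀ x y : ℕ, x < 12 → y < 12 → q (tp x y) = 1 → q (tp y x) = 1 := fun x y hx hy h => by
      rw [show tp y x = (tp x y)⁻¹ from eq_inv_of_mul_eq_one_left (Subtype.ext (by
        rw [Subgroup.coe_mul, tp_coe hx hy, tp_coe hy hx, OneMemClass.coe_one, mul_assoc, ← mul_assoc (gT x), gT_sq,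
          one_mul, gT_sq])), map_inv, h, inv_one]
    have via : ∃ w < 12, (x = w ∨ [x, w, x, w] ∈ pairParts.flatten ∨ [w, x, w, x] ∈ pairParts.flatten) ∧
        (y = w ∨ [y, w, y, w] ∈ pairParts.flatten ∨ [w, y, w, y] ∈ pairParts.flatten) := by
      have := (show ∀ x < 12, ∀ y < 12, ((List.range 12).any fun w =>
          (x == w || pairParts.flatten.contains [x, w, x, w] || pairParts.flatten.contains [w, x, w, x]) &&
          (y == w || pairParts.flatten.contains [y, w, y, w] || pairParts.flatten.contains [w, y, w, y])) = true by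
        decide +kernel) x hx y hy
      obtain ⟨w, hw, h⟩ := List.any_eq_true.1 this
      refine ⟨w, List.mem_range.1 hw, ?_⟩
      simpa [or_assoc] using h
    obtain ⟨w, hw, h1, h2⟩ := via
    have g1 : ∀ a : ℕ, a < 12 → (a = w ∨ [a, w, a, w] ∈ pairParts.flatten ∨ [w, a, w, a] ∈ pairParts.flatten) →
        q (tp a w) = 1 := by
      rintro a ha (rfl | h | h)
      · rw [show tp a a = 1 from Subtype.ext (by rw [tp_coe ha ha, gT_sq]; rfl), map_one]
      · exact hcomm a w ha hw h
      · exact inv w a hw ha (hcomm w a hw ha h)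
    rw [show tp x y = tp x w * tp w y from Subtype.ext (by
      rw [Subgroup.coe_mul, tp_coe hx hy, tp_coe hx hw, tp_coe hw hy, mul_assoc, ← mul_assoc (gT w), gT_sq, one_mul]),
      map_mul, g1 x hx h1, inv y w hy hw (g1 y hy h2), one_mul]
  have hz : q zc = 1 := by
    have key : ∀ {w : List ℕ} (hw : ∀ x ∈ w, x < 12) (hl : w.length % 2 = 0),
        q ⟨gW' w, word_mem_cov hw hl⟩ = 1 := by
      intro w
      induction w using List.twoStepInduction with
      | nil => intro _ _; exact map_one q
      | singleton x => intro _ hl; simp at hl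
      | cons_cons x y w ih _ =>
        intro hw hl
        have hx := hw x List.mem_cons_self
        have hy := hw y (by simp)
        have hw' : ∀ z ∈ w, z < 12 := fun z hz => hw z (by simp [hz])
        have hl' : w.length % 2 = 0 := by simp only [List.length_cons] at hl; omega
        rw [show (⟨gW' (x :: y :: w), word_mem_cov hw hl⟩ : covG) = tp x y * ⟨gW' w, word_mem_cov hw' hl'⟩ from
          Subtype.ext (by rw [Subgroup.coe_mul, tp_coe hx hy]; show gT x * (gT y * gW' w) = _; rw [mul_assoc]),
          map_mul, hall x y hx hy, ih hw' hl', one_mul]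
    exact key (small_of_mem (show centreRel ∈ checkedRels by simp [checkedRels])) (by decide)
  refine eq_top_iff.2 fun g _ => ?_
  obtain ⟨k, hk⟩ := hdec g
  rw [← Abelianization.ker_of covG, MonoidHom.mem_ker] at hk ⊢
  rwa [map_mul, map_inv, map_zpow, hz, one_zpow, inv_one, mul_one] at hk

theorem finite_cov : Finite covG := by
  haveI : Finite down.ker := by
    rw [ker_down]
    exact Nat.finite_of_card_ne_zero (by
      rw [Nat.card_zpowers, ← Subgroup.orderOf_coe, show orderOf (zc : big) = 3 from order_zg]; decide)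
  haveI : Finite parity.ker := inferInstance
  haveI : Finite (covG ⧸ down.ker) :=
    Finite.of_equiv _ (QuotientGroup.quotientKerEquivOfSurjective down down_surjective).symm.toEquiv
  exact Finite.of_equiv _ (Subgroup.groupEquivQuotientProdSubgroup (s := down.ker)).symm

theorem exists_cover : ∃ (Γ : Type) (_ : Group Γ) (_ : Finite Γ) (σ : Γ →* Spor.Fi24'),
    IsStemExtension σ ∧ Nonempty (σ.ker ≃* Multiplicative (ZMod 3)) := by
  let e : parity.ker ≃* Spor.Fi24' := MulEquiv.subgroupCongr derived_eq.symm
  refine ⟨covG, inferInstance, finite_cov, e.toMonoidHom.comp down, ⟨?_, ?_, ?_⟩, ?_⟩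
  · exact e.surjective.comp down_surjective
  all_goals rw [show (e.toMonoidHom.comp down).ker = Subgroup.zpowers zc by
    rw [← ker_down]; ext g; simp [MonoidHom.mem_ker]]
  · exact Subgroup.zpowers_le.2 zc_central
  · rw [cov_perfect]; exact le_top
  · haveI : Fact (Nat.Prime 3) := ⟨Nat.prime_three⟩
    exact ⟨mulEquivOfPrimeCardEq (p := 3) (by rw [Nat.card_zpowers, ← Subgroup.orderOf_coe]; exact order_zg) (by simp)⟩

end CfsgLib.Recog.FiFour.Cover
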